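import Cfsg.Agent.Block.FirstMain
import Cfsg.Agent.Block.Degrees
import Cfsg.Agent.Block.SingleBlock
import Cfsg.Agent.Brauer.RegElement

/-!
A criterion for a group to have a single 2-block: the centralisers of involutions have a single
block and no irreducible character has degree divisible by the full power of 2.
-/

set_option autoImplicit false
set_option linter.style.haveILetI false

namespace Cfsg.Agent.BlockOne

open Cfsg Cfsg.Agent.Block
open scoped Pointwise

variable {G : Type*} [Group G]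

/-- Some defect group of the block contains an involution, unless the block has defect zero. -/
theorem exists_involution_or_dvd [Fintype G] {M : Ideal AlgInt} (hM : IsPModular 2 M)
    (χ : IrrCharacter G) :
    (∃ z : G, orderOf z = 2 ∧ ∃ D : Subgroup G,
      IsDefectGroup 2 M (blockOf M (χ : G → ℂ)) D ∧ SubConj (Subgroup.zpowers z) D) ∨
      2 ^ (Nat.card G).factorization 2 ∣ charDegree (χ : G → ℂ) := by
  haveI : Fact (Nat.Prime 2) := ⟨Nat.prime_two⟩
  haveI : M.IsPrime := hM.2.1.isPrime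
  have hB := isPBlock_blockOf (M := M) χ
  obtain ⟨D, hD⟩ := exists_isDefectGroup (p := 2) (M := M) hB
  have hc := card_isDefectGroup hM hB hD
  rcases Nat.eq_zero_or_pos (blockDefect 2 (blockOf M (χ : G → ℂ))) with h | h
  · right
    rw [blockDefect] at h
    have hle : sInf ((fun ψ : IrrCharacter G => (charDegree (ψ : G → ℂ)).factorization 2) ''
        blockOf M (χ : G → ℂ)) ≤ (charDegree (χ : G → ℂ)).factorization 2 :=
      Nat.sInf_le ⟨χ, mem_blockOf_self χ, rfl⟩
    exact (pow_dvd_pow 2 (by omega)).trans (Nat.ordProj_dvd _ _)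
  · left
    obtain ⟨z, hz⟩ := exists_prime_orderOf_dvd_card' (G := D) 2
      (hc ▸ dvd_pow_self 2 h.ne')
    exact ⟨z, (Subgroup.orderOf_coe z).trans hz, D, hD,
      subConj_of_le (Subgroup.zpowers_le.2 z.2)⟩

/-- An involution is conjugate into a defect group of the principal block. -/
theorem subConj_principal [Fintype G] {M : Ideal AlgInt} (hM : IsPModular 2 M) {z : G}
    (hz : orderOf z = 2) {D : Subgroup G}
    (hD : IsDefectGroup 2 M (blockOf M ((Char.trivialIrr G : IrrCharacter G) : G → ℂ)) D) :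
    SubConj (Subgroup.zpowers z) D := by
  haveI : Fact (Nat.Prime 2) := ⟨Nat.prime_two⟩
  haveI : M.IsPrime := hM.2.1.isPrime
  set τ : IrrCharacter G := Char.trivialIrr G
  have hc := card_isDefectGroup hM (isPBlock_blockOf (M := M) τ) hD
  have hinf : sInf ((fun ψ : IrrCharacter G => (charDegree (ψ : G → ℂ)).factorization 2) ''
      blockOf M (τ : G → ℂ)) = 0 := by
    refine Nat.eq_zero_of_le_zero (Nat.sInf_le ⟨τ, mem_blockOf_self τ, ?_⟩)
    simp [τ, charDegree, Char.trivialIrr]
  rw [blockDefect, hinf, Nat.sub_zero] at hc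
  let S : Sylow 2 G := Sylow.ofCard D hc
  have hp : IsPGroup 2 (Subgroup.zpowers z) :=
    IsPGroup.of_card (n := 1) (by rw [Nat.card_zpowers, hz, pow_one])
  obtain ⟨Q, hQ⟩ := hp.exists_le_sylow
  obtain ⟨x, hx⟩ := MulAction.exists_smul_eq G Q S
  refine ⟨x, (Subgroup.map_mono hQ).trans ?_⟩
  have h : (MulAut.conj x • (Q : Subgroup G)) = D := congrArg Sylow.toSubgroup hx
  exact h.le

/-- The single block criterion. -/
theorem sameBlock_of_local [Finite G] {M : Ideal AlgInt} (hM : IsPModular 2 M)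
    (hloc : ∀ z : G, orderOf z = 2 →
      ∀ ξ η : IrrCharacter (Subgroup.centralizer ((Subgroup.zpowers z : Subgroup G) : Set G)),
        SameBlock M ξ.1 η.1)
    (hdz : ∀ χ : IrrCharacter G,
      ¬ 2 ^ (Nat.card G).factorization 2 ∣ charDegree (χ : G → ℂ))
    (χ ψ : IrrCharacter G) : SameBlock M (χ : G → ℂ) (ψ : G → ℂ) := by
  haveI := Fintype.ofFinite G
  haveI : Fact (Nat.Prime 2) := ⟨Nat.prime_two⟩
  haveI : M.IsPrime := hM.2.1.isPrime
  set τ : IrrCharacter G := Char.trivialIrr G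
  suffices h : ∀ φ : IrrCharacter G, SameBlock M (φ : G → ℂ) (τ : G → ℂ) from
    sameBlock_trans (h χ) (sameBlock_symm (h ψ))
  intro φ
  obtain ⟨z, hz, D, hD, hzD⟩ | h := exists_involution_or_dvd hM φ
  swap
  · exact absurd h (hdz φ)
  obtain ⟨E, hE⟩ := exists_isDefectGroup (p := 2) (M := M) (isPBlock_blockOf (M := M) τ)
  set P := Subgroup.zpowers z with hP
  have hPC : P ≤ Subgroup.centralizer (P : Set G) :=
    Subgroup.le_centralizer_iff_isMulCommutative.2 inferInstance
  have hCN : Subgroup.centralizer (P : Set G) ≤ Subgroup.normalizer (P : Set G) :=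
    Subgroup.centralizer_le_normalizer _
  obtain ⟨b, hb⟩ := exists_isInducedBlock_of_subConj hM hPC le_rfl hCN
    (isPBlock_blockOf (M := M) φ) hD hzD
  obtain ⟨b', hb'⟩ := exists_isInducedBlock_of_subConj hM hPC le_rfl hCN
    (isPBlock_blockOf (M := M) τ) hE (subConj_principal hM hz hE)
  obtain ⟨ξ, hξ⟩ := pBlock_nonempty hb.1
  obtain ⟨η, hη⟩ := pBlock_nonempty hb'.1
  have hbb : b = b' := pBlock_eq_of_mem hb.1 hb'.1 hξ (by
    rw [pBlock_eq hb'.1 hη]
    exact hloc z hz η ξ)
  intro g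
  have h1 := hb.2.2 ξ hξ φ (mem_blockOf_self φ) g
  have h2 := hb'.2.2 ξ (hbb ▸ hξ) τ (mem_blockOf_self τ) g
  simpa using memLocalIdeal_sub h2 h1

end Cfsg.Agent.BlockOne

namespace Cfsg.Agent.BlockOne

open Cfsg Cfsg.Agent.Block

/-- A subgroup with a normal 2-subgroup containing its centraliser has a single 2-block. -/
theorem sameBlock_of_constrained {G : Type*} [Group G] [Finite G] {M : Ideal AlgInt}
    (hM : IsPModular 2 M) {C Q : Subgroup G} (hQ : IsPGroup 2 Q) (hQC : Q ≤ C)
    (hnorm : ∀ c ∈ C, ∀ q ∈ Q, c * q * c⁻¹ ∈ Q)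
    (hcent : ∀ c ∈ C, (∀ q ∈ Q, q * c = c * q) → c ∈ Q) (ξ η : IrrCharacter C) :
    SameBlock M ξ.1 η.1 := by
  haveI : M.IsPrime := hM.2.1.isPrime
  haveI := Fintype.ofFinite C
  haveI : (Q.subgroupOf C).Normal := ⟨fun n hn c => hnorm c c.2 n hn⟩
  refine sameBlock_of_centralizer_le_normal_pGroup hM (P := Q.subgroupOf C)
    (hQ.of_equiv (Subgroup.subgroupOfEquivOfLe hQC).symm) (fun c hc => ?_) ξ η
  exact hcent c c.2 fun q hq =>
    congrArg Subtype.val (hc ⟨q, hQC hq⟩ (show (⟨q, hQC hq⟩ : C) ∈ Q.subgroupOf C from hq))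

end Cfsg.Agent.BlockOne
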