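/-!
Six generators of the largest normal 2-subgroup of the centraliser of the representative
fixed-point-free involution of M24.
-/

set_option autoImplicit false

namespace Cfsg.Agent.BlockOne

/-- The generators. -/
def coreGens : List Nat :=
  [976448692869377735270425038196672544,
    972512676110088067912772961567868960,
    984202951082164080105044112956360736,
    984724508489452699215480746259449888,
    29340620570662517957029049942508631,
    70399228063273750146191920654811874]

end Cfsg.Agent.BlockOne
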