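import Cfsg.Agent.M24.InvolutionCentralizer
import Cfsg.Agent.BlockOne.FreeInvolutionData
import Cfsg.Agent.M24.Classes

/-!
The centraliser of a fixed-point-free involution of M24 has a normal 2-subgroup containing its
centraliser.
-/

set_option autoImplicit false
set_option Elab.async false

namespace Cfsg.Agent.BlockOne

open Cfsg Cfsg.Agent.Golay Cfsg.Agent.M24

/-- The group generated by the six elements. -/
noncomputable def coreSub : Subgroup (Equiv.Perm GolayPt) :=
  Subgroup.closure {g | ∃ q ∈ coreGens, g = elemOf q}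

/-- The generators selected by a bit mask. -/
def selGens (m : ℕ) : List ℕ :=
  ((List.range 6).filter fun i => m.testBit i).map fun i => coreGens.getD i 0

/-- Whether a map of positions agrees on the base with a product of generators. -/
def inCore (f : ℕ → ℕ) : Bool :=
  (List.range 64).any fun m => allBase fun i => Nat.beq (f i) (act (selGens m) i)

/-- Whether a path commutes with a generator, on the base. -/
def commPath (P : List ℕ) (q : ℕ) : Bool :=
  allBase fun i => Nat.beq (act P (papp q i)) (papp q (act P i))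

/-- Whether a path conjugates a generator to a product of generators, on the base. -/
def normPath (P : List ℕ) (q : ℕ) : Bool :=
  (List.range 64).any fun m => allBase fun i =>
    Nat.beq (act P (papp q i)) (act (selGens m) (act P i))

theorem core_gens_ok : (coreGens.all fun q => GoodTab q && commBase ord2Fix0 (papp q) &&
    (allBase fun i => Nat.beq (papp q (papp q i)) i) &&
    coreGens.all fun q' => commPath [q'] q) = true := by
  decide +kernel

theorem core_ord2_mem : inCore (papp ord2Fix0) = true := by decide +kernel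

theorem core_norm_transversal : ((List.range 24).all fun a =>
    coreGens.all fun q => normPath [ord2Fix0Cent.getD a 0] q) = true := by
  decide +kernel

theorem core_norm_stab : ((scan okCent fullCent).all fun S =>
    coreGens.all fun q => normPath S q) = true := by
  decide +kernel

theorem core_cent : ((List.range 24).all fun a => (scan okCent fullCent).all fun S =>
    !(coreGens.all fun q => commPath (ord2Fix0Cent.getD a 0 :: S) q) ||
      inCore (act (ord2Fix0Cent.getD a 0 :: S))) = true := by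
  decide +kernel

theorem coreGens_good : ∀ q ∈ coreGens, GoodTab q = true := fun q hq => by
  have := List.all_eq_true.1 core_gens_ok q hq
  simp only [Bool.and_eq_true] at this
  exact this.1.1.1

theorem gen_mem_core {q : ℕ} (hq : q ∈ coreGens) : elemOf q ∈ coreSub :=
  Subgroup.subset_closure ⟨q, hq, rfl⟩

theorem repPath_map : ∀ L : List ℕ, (∀ t ∈ L, GoodTab t = true) →
    (L.map elemOf).prod ∈ Cfsg.M24 ∧ RepPath L (L.map elemOf).prod
  | [], _ => ⟨one_mem _, repPath_nil⟩
  | t :: L, h => by
    obtain ⟨hm, hr⟩ := elemOf_spec (h t List.mem_cons_self)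
    obtain ⟨hm', hr'⟩ := repPath_map L fun s hs => h s (List.mem_cons_of_mem _ hs)
    refine ⟨?_, fun p => ?_⟩
    · rw [List.map_cons, List.prod_cons]; exact mul_mem hm hm'
    · rw [List.map_cons, List.prod_cons, Equiv.Perm.mul_apply, hr, hr']
      rfl

theorem selGens_mem (m : ℕ) : ∀ t ∈ selGens m, t ∈ coreGens := by
  intro t ht
  obtain ⟨i, hi, rfl⟩ := List.mem_map.1 ht
  have : i < coreGens.length := List.mem_range.1 (List.mem_filter.1 hi).1
  rw [List.getD_eq_getElem _ _ this]
  exact List.getElem_mem this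

theorem sel_prod_mem (m : ℕ) : ((selGens m).map elemOf).prod ∈ coreSub :=
  list_prod_mem fun x hx => by
    obtain ⟨t, ht, rfl⟩ := List.mem_map.1 hx
    exact gen_mem_core (selGens_mem m t ht)

theorem inCore_spec {g : Equiv.Perm GolayPt} (hg : g ∈ Cfsg.M24) {f : ℕ → ℕ}
    (hf : ∀ p, ptIdx (g p) = f (ptIdx p)) (h : inCore f = true) : g ∈ coreSub := by
  obtain ⟨m, -, hm⟩ := List.any_eq_true.1 h
  obtain ⟨hpm, hpr⟩ := repPath_map (selGens m) fun t ht => coreGens_good t (selGens_mem m t ht)
  rw [eq_of_base hg hpm fun j hj => ptIdx_injective ?_]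
  · exact sel_prod_mem m
  · have := Nat.eq_of_beq_eq_true (allBase_iff.1 hm j hj)
    rw [hf, hpr, ptIdx_basePt j hj]
    exact this

theorem commPath_iff {P : List ℕ} {g : Equiv.Perm GolayPt} (hg : g ∈ Cfsg.M24) (hP : RepPath P g)
    {q : ℕ} (hq : GoodTab q = true) : commPath P q = true ↔ g * elemOf q = elemOf q * g := by
  obtain ⟨hm, hr⟩ := elemOf_spec hq
  rw [commPath, allBase_iff]
  constructor
  · intro h
    refine eq_of_base (mul_mem hg hm) (mul_mem hm hg) fun j hj => ptIdx_injective ?_
    have := Nat.eq_of_beq_eq_true (h j hj)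
    rw [← ptIdx_basePt j hj, ← hr, ← hP, ← hP, ← hr] at this
    exact this
  · intro h j hj
    rw [← ptIdx_basePt j hj, ← hr, ← hP, ← hP, ← hr, ← Equiv.Perm.mul_apply, h]
    exact Nat.beq_refl _

theorem normPath_spec {P : List ℕ} {g : Equiv.Perm GolayPt} (hg : g ∈ Cfsg.M24) (hP : RepPath P g)
    {q : ℕ} (hq : GoodTab q = true) (h : normPath P q = true) :
    g * elemOf q * g⁻¹ ∈ coreSub := by
  obtain ⟨hm, hr⟩ := elemOf_spec hq
  obtain ⟨m, -, hm'⟩ := List.any_eq_true.1 h
  obtain ⟨hpm, hpr⟩ := repPath_map (selGens m) fun t ht => coreGens_good t (selGens_mem m t ht)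
  have he : g * elemOf q = ((selGens m).map elemOf).prod * g := by
    refine eq_of_base (mul_mem hg hm) (mul_mem hpm hg) fun j hj => ptIdx_injective ?_
    have := Nat.eq_of_beq_eq_true (allBase_iff.1 hm' j hj)
    rw [← ptIdx_basePt j hj, ← hr, ← hP, ← hP, ← hpr] at this
    exact this
  rw [he, mul_inv_cancel_right]
  exact sel_prod_mem m

theorem norm_closure {g : Equiv.Perm GolayPt}
    (h : ∀ q ∈ coreGens, g * elemOf q * g⁻¹ ∈ coreSub) :
    ∀ x ∈ coreSub, g * x * g⁻¹ ∈ coreSub := by
  intro x hx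
  have : coreSub ≤ coreSub.comap (MulAut.conj g).toMonoidHom := by
    refine (Subgroup.closure_le _).2 ?_
    rintro _ ⟨q, hq, rfl⟩
    exact h q hq
  exact this hx

/-- An element of the centraliser is a transversal element times one fixing the first base
point. -/
theorem centTwo_decomp {c : Equiv.Perm GolayPt} (hc : c ∈ centTwo) :
    ∃ a < 24, ∃ S ∈ scan okCent fullCent, ∃ A s : Equiv.Perm GolayPt, A ∈ Cfsg.M24 ∧
      s ∈ Cfsg.M24 ∧ RepPath [ord2Fix0Cent.getD a 0] A ∧ RepPath S s ∧
      RepPath (ord2Fix0Cent.getD a 0 :: S) (A * s) ∧ c = A * s := by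
  obtain ⟨hrm, hr⟩ := elemOf_spec (reps_good ord2Fix0 (by simp))
  obtain ⟨hcm, hcc⟩ := mem_centTwo.1 hc
  set a := ptIdx (c (basePt 0)) with ha
  have h := List.all_eq_true.mp cent_cert a (List.mem_range.mpr (ptIdx_lt _))
  simp only [Bool.and_eq_true, Nat.beq_eq] at h
  obtain ⟨⟨hgood, hq⟩, hcA⟩ := h
  obtain ⟨A, hA, hrep⟩ := rep_of_good hgood
  have hAc := commBase_act hr hrm hA hrep hcA
  have hA0 : A (basePt 0) = c (basePt 0) := ptIdx_injective (by
    rw [hrep, ptIdx_basePt 0 (by norm_num), show basePos 0 = 23 from by decide +kernel, hq])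
  have hs : CentFix (A⁻¹ * c) := by
    refine ⟨?_, ?_⟩
    · rw [Equiv.Perm.mul_apply, ← hA0]
      exact A.symm_apply_apply _
    · exact ((show Commute A (elemOf ord2Fix0) from hAc).inv_left.mul_left hcc).eq
  obtain ⟨S, hS, hSr⟩ := (scan_spec tests_cent).2.1 _ (mul_mem (inv_mem hA) hcm) hs
  have hrA : RepPath [ord2Fix0Cent.getD a 0] A := fun p => hrep p
  refine ⟨a, ptIdx_lt _, S, hS, A, A⁻¹ * c, hA, mul_mem (inv_mem hA) hcm, hrA, hSr, fun p => ?_,
    by group⟩
  rw [Equiv.Perm.mul_apply, hrep, hSr]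
  rfl

theorem core_normal {c : Equiv.Perm GolayPt} (hc : c ∈ centTwo) :
    ∀ x ∈ coreSub, c * x * c⁻¹ ∈ coreSub := by
  obtain ⟨a, ha, S, hS, A, s, hA, hs, hrA, hrs, -, rfl⟩ := centTwo_decomp hc
  intro x hx
  have h1 : ∀ q ∈ coreGens, s * elemOf q * s⁻¹ ∈ coreSub := fun q hq =>
    normPath_spec hs hrs (coreGens_good q hq)
      (List.all_eq_true.1 (List.all_eq_true.1 core_norm_stab S hS) q hq)
  have h2 : ∀ q ∈ coreGens, A * elemOf q * A⁻¹ ∈ coreSub := fun q hq =>
    normPath_spec hA hrA (coreGens_good q hq)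
      (List.all_eq_true.1 (List.all_eq_true.1 core_norm_transversal a (List.mem_range.2 ha)) q hq)
  rw [show A * s * x * (A * s)⁻¹ = A * (s * x * s⁻¹) * A⁻¹ by group]
  exact norm_closure h2 _ (norm_closure h1 x hx)

theorem core_self_centralizing {c : Equiv.Perm GolayPt} (hc : c ∈ centTwo)
    (h : ∀ x ∈ coreSub, x * c = c * x) : c ∈ coreSub := by
  obtain ⟨a, ha, S, hS, A, s, hA, hs, -, -, hr, rfl⟩ := centTwo_decomp hc
  have hall : coreGens.all (fun q => commPath (ord2Fix0Cent.getD a 0 :: S) q) = true :=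
    List.all_eq_true.2 fun q hq => (commPath_iff (mul_mem hA hs) hr (coreGens_good q hq)).2
      (h _ (gen_mem_core hq)).symm
  have := List.all_eq_true.1 (List.all_eq_true.1 core_cent a (List.mem_range.2 ha)) S hS
  rw [hall, Bool.not_true, Bool.false_or] at this
  exact inCore_spec (mul_mem hA hs) hr this

theorem core_gen_facts {q : ℕ} (hq : q ∈ coreGens) :
    elemOf q ∈ centTwo ∧ elemOf q * elemOf q = 1 ∧
      ∀ q' ∈ coreGens, elemOf q' * elemOf q = elemOf q * elemOf q' := by
  obtain ⟨hrm, hr⟩ := elemOf_spec (reps_good ord2Fix0 (by simp))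
  have := List.all_eq_true.1 core_gens_ok q hq
  simp only [Bool.and_eq_true, List.all_eq_true, allBase_iff, Nat.beq_eq] at this
  obtain ⟨⟨⟨hgood, hcomm⟩, hsq⟩, hpair⟩ := this
  obtain ⟨hm, hrq⟩ := elemOf_spec hgood
  refine ⟨mem_centTwo.2 ⟨hm, commBase_act hr hrm hm hrq hcomm⟩,
    eq_of_base (mul_mem hm hm) (one_mem _) fun j hj => ptIdx_injective ?_, fun q' hq' => ?_⟩
  · rw [Equiv.Perm.mul_apply, hrq, hrq, ptIdx_basePt j hj, hsq j hj]
    exact (ptIdx_basePt j hj).symm
  · obtain ⟨hm', hrq'⟩ := elemOf_spec (coreGens_good q' hq')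
    exact (commPath_iff (P := [q']) hm' (fun p => hrq' p) hgood).1 (hpair q' hq')

theorem core_le_centTwo : coreSub ≤ centTwo := by
  refine (Subgroup.closure_le _).2 ?_
  rintro _ ⟨q, hq, rfl⟩
  exact (core_gen_facts hq).1

theorem core_isPGroup : IsPGroup 2 coreSub := by
  have hcomm : ∀ x ∈ coreSub, ∀ y ∈ coreSub, x * y = y * x := by
    intro x hx y hy
    have h1 : coreSub ≤ Subgroup.centralizer {g | ∃ q ∈ coreGens, g = elemOf q} := by
      refine (Subgroup.closure_le _).2 ?_
      rintro _ ⟨q, hq, rfl⟩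
      rintro _ ⟨q', hq', rfl⟩
      exact (core_gen_facts hq).2.2 q' hq'
    rw [coreSub, ← Subgroup.centralizer_closure] at h1
    exact h1 hy x hx
  intro x
  refine ⟨1, Subtype.ext ?_⟩
  obtain ⟨x, hx⟩ := x
  rw [pow_one, SubmonoidClass.coe_pow, pow_two]
  show x * x = 1
  induction hx using Subgroup.closure_induction with
  | mem x hx => obtain ⟨q, hq, rfl⟩ := hx; exact (core_gen_facts hq).2.1
  | one => simp
  | mul x y hx hy ihx ihy =>
    rw [show x * y * (x * y) = x * (y * x) * y by group, hcomm y hy x hx,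
      show x * (x * y) * y = (x * x) * (y * y) by group, ihx, ihy, one_mul]
  | inv x _ ih => rw [← mul_inv_rev, ih, inv_one]

end Cfsg.Agent.BlockOne
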