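import Cfsg.Agent.M24Geo.OctadStab
import Cfsg.Agent.Golay.IndexM23

/-!
The centraliser of an involution fixing an octad: the pointwise stabiliser of the octad is a normal
2-subgroup containing its centraliser.
-/

set_option autoImplicit false

namespace Cfsg.Agent.BlockOne

open Cfsg Cfsg.Agent.Golay Cfsg.Agent.M24Geo
open scoped Pointwise

theorem trans_six_involutions :
    ∀ w ∈ transWords.getD 6 [], ∀ p, wordFun w (wordFun w p) = p := by
  decide +kernel

theorem octKer_base_sq : ∀ k ∈ octKer oct0, k * k = 1 := by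
  intro k hk
  have hout : k (basePt 6) ∉ oct0 := fun h =>
    basePt_facts.1 (k.injective ((mem_octKer.1 hk).2 _ h) ▸ h)
  have ht : IsTarget 6 (k (basePt 6)) := by
    rw [IsTarget, if_neg (by norm_num), if_neg (by norm_num)]
    exact hout
  obtain ⟨w, hw, he⟩ := trans_cover 6 (by norm_num) _ ht
  obtain ⟨g, hg, eg⟩ := wordFun_mem w fun i hi => (trans_fix 6 (by norm_num) w hw i hi).1
  have hgk : g ∈ octKer oct0 := mem_octKer.2 ⟨hg, fun x hx => by
    rw [eg]; exact transWords_fix w hw x hx⟩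
  have h1 := octKer_base_facts.2 _ (mul_mem (inv_mem hgk) hk) (by
    rw [Equiv.Perm.mul_apply, Equiv.Perm.inv_eq_iff_eq, eg, he])
  have hkg : k = g := (inv_mul_eq_one.1 h1).symm
  rw [hkg]
  exact Equiv.ext fun p => by
    rw [Equiv.Perm.mul_apply, eg, trans_six_involutions w hw p]
    rfl

theorem octKer_sq {o : Finset GolayPt} (ho : o ∈ octads) : ∀ k ∈ octKer o, k * k = 1 := by
  intro k hk
  obtain ⟨g, hg, rfl⟩ := octadFamily.transitive oct0_mem ho
  have h := octKer_conj (inv_mem hg) hk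
  rw [inv_inv, inv_smul_smul] at h
  have := octKer_base_sq _ h
  rw [show k * k = g * (g⁻¹ * k * g * (g⁻¹ * k * g)) * g⁻¹ by group, this]
  group

theorem octKer_comm {o : Finset GolayPt} (ho : o ∈ octads) {a b : Equiv.Perm GolayPt}
    (ha : a ∈ octKer o) (hb : b ∈ octKer o) : a * b = b * a := by
  have h1 := octKer_sq ho _ (mul_mem ha hb)
  have e : ∀ x ∈ octKer o, x⁻¹ = x := fun x hx => inv_eq_of_mul_eq_one_right (octKer_sq ho x hx)
  calc a * b = (a * b)⁻¹ := (inv_eq_of_mul_eq_one_right h1).symm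
    _ = b * a := by rw [mul_inv_rev, e a ha, e b hb]

/-- The fixed points of an involution that fixes a point form an octad, or the involution is
free. -/
theorem fixSet_octad_of_order_two {t : Equiv.Perm GolayPt} (ht : t ∈ Cfsg.M24) (h1 : t ≠ 1)
    (hf : 7 ≤ (fixSet t).card) : fixSet t ∈ octads ∧ t ∈ octKer (fixSet t) :=
  ⟨fixSet_mem_octads ht h1 hf, mem_octKer.2 ⟨ht, fun _ hx => mem_fixSet.1 hx⟩⟩

/-- An element commuting with the pointwise stabiliser of an octad and fixing the octad lies in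
it. -/
theorem mem_octKer_of_commute {o : Finset GolayPt} (ho : o ∈ octads) {c : Equiv.Perm GolayPt}
    (hc : c ∈ Cfsg.M24) (hco : c • o = o) (h : ∀ k ∈ octKer o, k * c = c * k) : c ∈ octKer o := by
  obtain ⟨p, hp⟩ := exists_not_mem_octad ho
  have hcp : c p ∉ o := by
    intro h'
    rw [← hco] at h'
    exact hp ((Finset.smul_mem_smul_finset_iff c).mp h')
  obtain ⟨k, hk, hkp⟩ := (octKer_facts ho).1 p hp (c p) hcp
  suffices k⁻¹ * c = 1 by rw [← inv_mul_eq_one.1 this]; exact hk
  by_contra hne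
  have hfix : oᶜ ⊆ fixSet (k⁻¹ * c) := by
    intro q hq
    rw [Finset.mem_compl] at hq
    obtain ⟨l, hl, rfl⟩ := (octKer_facts ho).1 p hp q hq
    rw [mem_fixSet]
    have hcomm : k⁻¹ * c * l = l * (k⁻¹ * c) := by
      rw [mul_assoc, ← h l hl, ← mul_assoc, octKer_comm ho (inv_mem hk) hl, mul_assoc]
    rw [← Equiv.Perm.mul_apply, hcomm, Equiv.Perm.mul_apply, Equiv.Perm.mul_apply k⁻¹, ← hkp]
    exact congrArg l (k.symm_apply_apply p)
  have h16 : 16 ≤ (fixSet (k⁻¹ * c)).card := by
    refine le_trans (le_of_eq ?_) (Finset.card_le_card hfix)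
    rw [Finset.card_compl, ho.2]
    rfl
  have := (fixSet_mem_octads (mul_mem (inv_mem (mem_octKer.1 hk).1) hc) hne (by omega)).2
  omega

theorem octKer_isPGroup {o : Finset GolayPt} (ho : o ∈ octads) : IsPGroup 2 (octKer o) := by
  intro x
  exact ⟨1, Subtype.ext (by rw [pow_one, SubmonoidClass.coe_pow, pow_two]; exact octKer_sq ho _ x.2)⟩

end Cfsg.Agent.BlockOne
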